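import Groth.Agent.L05.SmoothCrit.Conormal
import Groth.Agent.L05.Kaehler.Tower
import Mathlib.RingTheory.Localization.Algebra
import Mathlib.RingTheory.Smooth.Locus
import Mathlib.RingTheory.Etale.Locus
import Mathlib.RingTheory.LocalRing.ResidueField.Ideal
import Mathlib.RingTheory.RingHom.Etale
import Mathlib.LinearAlgebra.Dimension.OrzechProperty

/-!
Coordinates adapted to a smooth closed subscheme of a smooth algebra.
-/

set_option autoImplicit false
set_option maxSynthPendingDepth 3
set_option linter.style.haveILetI false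
universe u

noncomputable section

namespace Groth.L05.SmoothAdapted

open KaehlerDifferential IsLocalRing
open scoped TensorProduct
open Groth.L05.SmoothCrit (dbar)

section Local

variable (A : Type u) {R S : Type u} [CommRing A] [CommRing R] [CommRing S] [IsLocalRing R] [Algebra A R]
  [Algebra A S] [Algebra R S] [IsScalarTower A R S] [Nontrivial S]

/-- Minimal generators of the ideal of a smooth quotient have independent differentials. -/
theorem linearIndependent_dbar [Algebra.FormallySmooth A R] [Algebra.FormallySmooth A S]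
    (hs : Function.Surjective (algebraMap R S)) {r : ℕ} (g : Fin r → RingHom.ker (algebraMap R S))
    (hgen : Submodule.span R (Set.range g) = ⊤)
    (hr : r = Module.finrank (ResidueField R) (ResidueField R ⊗[R] RingHom.ker (algebraMap R S))) :
    LinearIndependent (ResidueField R) fun i => dbar A R (g i).1 := by
  let κ := ResidueField R
  let I := RingHom.ker (algebraMap R S)
  have hIm : I ≤ maximalIdeal R := le_maximalIdeal (RingHom.ker_ne_top _)
  let φ : I.Cotangent →ₗ[R] κ ⊗[R] I := Submodule.liftQ (I • ⊤) (TensorProduct.mk R κ I 1) <| by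
    refine Submodule.smul_le.mpr fun a ha b _ => ?_
    show (1 : κ) ⊗ₜ[R] (a • b) = 0
    rw [TensorProduct.tmul_smul, ← algebraMap_smul κ a ((1 : κ) ⊗ₜ[R] b), ResidueField.algebraMap_eq,
      (residue_eq_zero_iff a).mpr (hIm ha), zero_smul]
  obtain ⟨l, hl⟩ := (Algebra.FormallySmooth.iff_split_injection (R := A) hs).mp inferInstance
  let ψ : Ω[R⁄A] →ₗ[R] κ ⊗[R] I := φ ∘ₗ l ∘ₗ TensorProduct.mk R S (Ω[R⁄A]) 1
  have hψ : ∀ x : I, ψ (D A R x.1) = (1 : κ) ⊗ₜ[R] x := fun x => by
    show φ (l ((1 : S) ⊗ₜ[R] D A R x.1)) = _
    rw [← kerCotangentToTensor_toCotangent A R S x, ← LinearMap.comp_apply l, hl]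
    rfl
  have hψ' : ∀ x : I, ψ.liftBaseChange κ (dbar A R x.1) = (1 : κ) ⊗ₜ[R] x := fun x => by
    rw [Groth.L05.SmoothCrit.dbar, LinearMap.liftBaseChange_tmul, one_smul, hψ]
  have hspan : Submodule.span κ (Set.range fun i => (1 : κ) ⊗ₜ[R] g i) = ⊤ := by
    have h := congrArg (Submodule.baseChange κ) hgen
    rw [Submodule.baseChange_span, Submodule.baseChange_top, ← Set.range_comp] at h
    exact h
  have hli : LinearIndependent κ fun i => (1 : κ) ⊗ₜ[R] g i :=
    linearIndependent_of_top_le_span_of_card_eq_finrank hspan.ge (by rw [Fintype.card_fin, hr])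
  refine LinearIndependent.of_comp (ψ.liftBaseChange κ) ?_
  have : (fun i => (1 : κ) ⊗ₜ[R] g i) = ψ.liftBaseChange κ ∘ fun i => dbar A R (g i).1 :=
    funext fun i => (hψ' (g i)).symm
  rwa [this] at hli

end Local

variable (A B : Type u) [CommRing A] [CommRing B] [Algebra A B] [Algebra.FinitePresentation A B]

/-- Coordinates adapted to a smooth closed subscheme. -/
theorem exists_coordinates (J : Ideal B) (hJ : J.FG) (q : Ideal B) [q.IsPrime] (hJq : J ≤ q)
    [Algebra.IsSmoothAt A q] (Q : Ideal (B ⧸ J)) [Q.IsPrime] (hQ : Q.comap (Ideal.Quotient.mk J) = q)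
    [Algebra.IsSmoothAt A Q] (r : ℕ) (g : Fin r → B) (hg : ∀ i, g i ∈ J)
    (hgen : J.map (algebraMap B (Localization.AtPrime q)) =
      Ideal.span (Set.range fun i => algebraMap B (Localization.AtPrime q) (g i)))
    (hmin : r = Module.finrank q.ResidueField (q.ResidueField ⊗[B] J)) :
    ∃ (f : B) (_ : f ∉ q) (m : ℕ) (g' : Fin m → Localization.Away f),
      (MvPolynomial.aeval (Sum.elim (fun i => algebraMap B (Localization.Away f) (g i)) g') :
          MvPolynomial (Fin r ⊕ Fin m) A →ₐ[A] Localization.Away f).toRingHom.Etale ∧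
      J.map (algebraMap B (Localization.Away f)) =
        Ideal.span (Set.range fun i => algebraMap B (Localization.Away f) (g i)) := by
  classical
  let R := Localization.AtPrime q
  let κ := q.ResidueField
  let Jq := J.map (algebraMap B R)
  let S := R ⧸ Jq
  haveI : Nontrivial S := Ideal.Quotient.nontrivial_iff.mpr (ne_top_of_le_ne_top (maximalIdeal.isMaximal R).ne_top
    ((Ideal.map_mono hJq).trans (Localization.AtPrime.map_eq_maximalIdeal (I := q)).le))
  haveI hsR : Algebra.FormallySmooth A R := ‹Algebra.IsSmoothAt A q›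
  haveI : Q.LiesOver q := ⟨hQ.symm⟩
  haveI : IsLocalization.AtPrime S Q := by
    have h : Algebra.algebraMapSubmonoid (B ⧸ J) q.primeCompl = Q.primeCompl :=
      Ideal.algebraMapSubmonoid_primeCompl_of_liesOver_surjective Q q Ideal.Quotient.mk_surjective
    have h' : IsLocalization (Algebra.algebraMapSubmonoid (B ⧸ J) q.primeCompl) S := inferInstance
    rwa [h] at h'
  haveI : IsScalarTower A (B ⧸ J) S := IsScalarTower.to₁₃₄ A B (B ⧸ J) S
  haveI : Algebra.FormallySmooth A (Localization.AtPrime Q) := ‹Algebra.IsSmoothAt A Q›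
  haveI : Algebra.FormallySmooth A S := Algebra.FormallySmooth.of_equiv
    ((IsLocalization.algEquiv Q.primeCompl (Localization.AtPrime Q) S).restrictScalars A)
  have hker : RingHom.ker (algebraMap R S) = Jq := Ideal.mk_ker
  let gK : Fin r → RingHom.ker (algebraMap R S) := fun i =>
    ⟨algebraMap B R (g i), hker.symm ▸ Ideal.mem_map_of_mem _ (hg i)⟩
  have hgK : Submodule.span R (Set.range gK) = ⊤ := by
    apply Submodule.map_injective_of_injective (f := Submodule.subtype _) (Submodule.subtype_injective _)
    rw [Submodule.map_span, Submodule.map_top, Submodule.range_subtype, ← Set.range_comp]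
    exact hgen.symm.trans hker.symm
  have hfr : r = Module.finrank (ResidueField R) (ResidueField R ⊗[R] RingHom.ker (algebraMap R S)) := by
    rw [hmin]
    let e : R ⊗[B] J ≃ₗ[R] RingHom.ker (algebraMap R S) :=
      (IsLocalizedModule.isBaseChange q.primeCompl R (Algebra.idealMap J (S := R))).equiv ≪≫ₗ
        LinearEquiv.ofEq _ _ hker.symm
    exact ((TensorProduct.AlgebraTensorModule.cancelBaseChange B R κ κ J).symm ≪≫ₗ
      TensorProduct.AlgebraTensorModule.congr (LinearEquiv.refl κ κ) e).finrank_eq
  have hli := linearIndependent_dbar A Ideal.Quotient.mk_surjective gK hgK hfr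
  let W := ResidueField R ⊗[R] Ω[R⁄A]
  let v : B → W := fun b => dbar A R (algebraMap B R b)
  haveI : Algebra.EssFiniteType B R := Algebra.EssFiniteType.of_isLocalization _ q.primeCompl
  haveI : Algebra.EssFiniteType A R := Algebra.EssFiniteType.comp A B R
  haveI : Algebra.FormallyEtale B R := Algebra.FormallyEtale.of_isLocalization q.primeCompl
  have hvspan : Submodule.span (ResidueField R) (Set.range v) = ⊤ := by
    have h1 : Submodule.span R (Set.range fun b : B => D A R (algebraMap B R b)) = ⊤ := by
      refine eq_top_iff.mpr fun x _ => ?_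
      obtain ⟨y, rfl⟩ := (tensorKaehlerEquivOfFormallyEtale A B R).surjective x
      induction y using TensorProduct.induction_on with
      | zero => simp
      | add a b ha hb => rw [map_add]; exact Submodule.add_mem _ (ha trivial) (hb trivial)
      | tmul c w =>
        have key : mapBaseChange A B R ((1 : R) ⊗ₜ w) ∈ Submodule.span R (Set.range fun b : B => D A R (algebraMap B R b)) := by
          have hw : w ∈ Submodule.span B (Set.range (D A B)) := by rw [span_range_derivation]; trivial
          induction hw using Submodule.span_induction with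
          | mem w hw =>
            obtain ⟨b, rfl⟩ := hw
            rw [mapBaseChange_tmul, one_smul, map_D]
            exact Submodule.subset_span ⟨b, rfl⟩
          | zero => simp
          | add a b _ _ ha hb => rw [TensorProduct.tmul_add, map_add]; exact Submodule.add_mem _ (ha trivial) (hb trivial)
          | smul t a _ ha =>
            rw [TensorProduct.tmul_smul, ← algebraMap_smul R t ((1 : R) ⊗ₜ[B] a), map_smul]
            exact Submodule.smul_mem _ _ (ha trivial)
        show mapBaseChange A B R (c ⊗ₜ w) ∈ _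
        rw [← mul_one c, ← smul_eq_mul, ← TensorProduct.smul_tmul', map_smul]
        exact Submodule.smul_mem _ _ key
    have h := congrArg (Submodule.baseChange (ResidueField R)) h1
    rw [Submodule.baseChange_span, Submodule.baseChange_top, ← Set.range_comp] at h
    exact h
  let s : Set W := Set.range fun i => v (g i)
  have hs : LinearIndepOn (ResidueField R) id s := (linearIndepOn_id_range_iff hli.injective).mpr hli
  obtain ⟨bs, hbs, hsb, hspan, hbli⟩ := exists_linearIndepOn_extension hs
    (t := Set.range v) (by rintro _ ⟨i, rfl⟩; exact ⟨_, rfl⟩)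
  rw [Set.image_id, Set.image_id] at hspan
  have htop : Submodule.span (ResidueField R) bs = ⊤ :=
    top_le_iff.mp (hvspan.ge.trans (Submodule.span_le.mpr hspan))
  haveI : Fintype bs := hbli.linearIndependent.setFinite.fintype
  let m := Fintype.card ↥(bs \ s)
  let e : Fin m ≃ ↥(bs \ s) := (Fintype.equivFin _).symm
  choose b' hb' using fun i : Fin m => hbs (e i).2.1
  let c : Fin r ⊕ Fin m → B := Sum.elim g b'
  have hc : Set.range (v ∘ c) = bs := by
    ext w
    constructor
    · rintro ⟨(i | i), rfl⟩
      · exact hsb ⟨i, rfl⟩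
      · show v (b' i) ∈ bs
        rw [hb']; exact (e i).2.1
    · intro hw
      by_cases hws : w ∈ s
      · obtain ⟨i, rfl⟩ := hws
        exact ⟨.inl i, rfl⟩
      · refine ⟨.inr (e.symm ⟨w, hw, hws⟩), ?_⟩
        show v (b' _) = w
        rw [hb', Equiv.apply_symm_apply]
  have hcinj : Function.Injective (v ∘ c) := by
    rintro (i | i) (j | j) h
    · exact congrArg Sum.inl (hli.injective h)
    · exact absurd (show v (b' j) ∈ s from ⟨i, h⟩) (by rw [hb']; exact (e j).2.2)
    · exact absurd (show v (b' i) ∈ s from ⟨j, h.symm⟩) (by rw [hb']; exact (e i).2.2)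
    · refine congrArg Sum.inr (e.injective (Subtype.ext ?_))
      rw [← hb' i, ← hb' j]; exact h
  have hcli : LinearIndependent (ResidueField R) (v ∘ c) := by
    refine (linearIndepOn_id_range_iff hcinj).mp ?_
    rw [hc]; exact hbli
  let w : Fin r ⊕ Fin m → Ω[R⁄A] := fun i => D A R (algebraMap B R (c i))
  let bas : Module.Basis (Fin r ⊕ Fin m) (ResidueField R) W :=
    Module.Basis.mk hcli (by rw [hc, htop])
  have hwspan : Submodule.span R (Set.range w) = ⊤ :=
    IsLocalRing.span_eq_top_of_tmul_eq_basis w bas fun i => by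
      rw [Module.Basis.mk_apply]; rfl
  haveI : Module.Free R (Ω[R⁄A]) := Module.free_of_flat_of_isLocalRing
  have hwli : LinearIndependent R w := by
    refine linearIndependent_of_top_le_span_of_card_eq_finrank hwspan.ge ?_
    rw [← Module.finrank_baseChange (R := ResidueField R) (S := R) (M' := Ω[R⁄A]),
      Module.finrank_eq_card_basis bas]
  let P := MvPolynomial (Fin r ⊕ Fin m) A
  letI : Algebra P B := (MvPolynomial.aeval c).toRingHom.toAlgebra
  haveI : IsScalarTower A P B := IsScalarTower.of_algebraMap_eq fun a => ((MvPolynomial.aeval c).commutes a).symm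
  haveI : IsScalarTower A P R := IsScalarTower.of_algebraMap_eq fun a => by
    rw [IsScalarTower.algebraMap_apply P B R, ← IsScalarTower.algebraMap_apply A P B,
      ← IsScalarTower.algebraMap_apply A B R]
  have hX : (fun i => D A R (algebraMap P R (MvPolynomial.X i))) = w := funext fun i => by
    rw [IsScalarTower.algebraMap_apply P B R]
    exact congrArg (fun x => D A R (algebraMap B R x)) (MvPolynomial.aeval_X c i)
  haveI : Algebra.IsEtaleAt P q := (Groth.L05.Kaehler.formallyEtale_mvPolynomial_iff (Fin r ⊕ Fin m) A R).mpr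
    (by rw [hX]; exact ⟨hwli, hwspan⟩)
  haveI : Algebra.FinitePresentation P B :=
    Algebra.FinitePresentation.of_restrict_scalars_finitePresentation A P B
  obtain ⟨f₁, hf₁, het₁⟩ := Algebra.exists_etale_of_isEtaleAt (R := P) q
  obtain ⟨T, hT⟩ := hJ
  have hsj : ∀ j : T, ∃ s : B, s ∉ q ∧ s * j.1 ∈ Ideal.span (Set.range g) := fun j => by
    have hj : algebraMap B R j.1 ∈ (Ideal.span (Set.range g)).map (algebraMap B R) := by
      rw [Ideal.map_span, ← Set.range_comp, Function.comp_def, ← hgen]
      exact Ideal.mem_map_of_mem _ (hT ▸ Ideal.subset_span j.2)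
    rw [IsLocalization.algebraMap_mem_map_algebraMap_iff q.primeCompl] at hj
    obtain ⟨s, hs, hsj⟩ := hj
    exact ⟨s, hs, hsj⟩
  choose sj hsjq hsjmem using hsj
  let f := f₁ * ∏ j, sj j
  have hf : f ∉ q := fun h => (‹q.IsPrime›.mem_or_mem h).elim hf₁ fun h' => by
    obtain ⟨j, -, hj⟩ := ‹q.IsPrime›.prod_mem_iff.mp h'
    exact hsjq j hj
  haveI : Algebra.Etale P (Localization.Away f) := Algebra.basicOpen_subset_etaleLocus_iff_etale.mp
    (Set.Subset.trans (PrimeSpectrum.basicOpen_mul_le_left f₁ _) (Algebra.basicOpen_subset_etaleLocus_iff_etale.mpr het₁))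
  refine ⟨f, hf, m, fun i => algebraMap B _ (b' i), ?_, ?_⟩
  · have e : (MvPolynomial.aeval (Sum.elim (fun i => algebraMap B (Localization.Away f) (g i))
        fun i => algebraMap B (Localization.Away f) (b' i)) : P →ₐ[A] Localization.Away f).toRingHom =
        algebraMap P (Localization.Away f) := by
      refine MvPolynomial.ringHom_ext (fun a => ?_) fun i => ?_
      · show MvPolynomial.aeval _ (MvPolynomial.C a) = algebraMap P (Localization.Away f) (algebraMap A P a)
        rw [MvPolynomial.aeval_C, ← IsScalarTower.algebraMap_apply]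
      · show MvPolynomial.aeval _ (MvPolynomial.X i) = algebraMap P (Localization.Away f) (MvPolynomial.X i)
        rw [MvPolynomial.aeval_X, IsScalarTower.algebraMap_apply P B (Localization.Away f)]
        refine Eq.trans ?_ (congrArg (algebraMap B (Localization.Away f)) (MvPolynomial.aeval_X c i)).symm
        rcases i with i | i <;> rfl
    rw [e]
    exact RingHom.etale_algebraMap.mpr inferInstance
  · refine le_antisymm ?_ (Ideal.span_le.mpr (by rintro _ ⟨i, rfl⟩; exact Ideal.mem_map_of_mem _ (hg i)))
    rw [← hT, Ideal.map_span, Ideal.span_le]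
    rintro _ ⟨j, hj, rfl⟩
    have hu : IsUnit (algebraMap B (Localization.Away f) (sj ⟨j, hj⟩)) :=
      isUnit_of_dvd_unit (map_dvd _ ((Finset.dvd_prod_of_mem sj (Finset.mem_univ (⟨j, hj⟩ : T))).mul_left f₁))
        (IsLocalization.Away.algebraMap_isUnit f)
    refine (Ideal.unit_mul_mem_iff_mem _ hu).mp ?_
    rw [← map_mul]
    have := Ideal.mem_map_of_mem (algebraMap B (Localization.Away f)) (hsjmem ⟨j, hj⟩)
    rw [Ideal.map_span, ← Set.range_comp] at this
    exact this

end Groth.L05.SmoothAdapted
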